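import Mathlib

/-!
Soft subgroups of finite `p`-groups.
-/

set_option autoImplicit false
set_option linter.style.haveILetI false

namespace CfsgLib.SoftSub

open scoped commutatorElement

universe u

/-- An abelian self-centralizing subgroup of index `p` in its normalizer and of index at least `p ^ 2`. -/
structure Soft (p : ℕ) {P : Type u} [Group P] (E : Subgroup P) : Prop where
  comm : ∀ a ∈ E, ∀ b ∈ E, a * b = b * a
  cent : Subgroup.centralizer (E : Set P) ≤ E
  nor : E.index = p * (Subgroup.normalizer (E : Set P)).index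
  big : p ^ 2 ≤ E.index

/-- Every proper overgroup has index `p` in its normalizer. -/
def Step (p : ℕ) {P : Type u} [Group P] (E : Subgroup P) : Prop :=
  ∀ K : Subgroup P, E ≤ K → K ≠ ⊤ → K.index = p * (Subgroup.normalizer (K : Set P)).index

variable {p : ℕ} [hp : Fact p.Prime] {P : Type u} [Group P] [Finite P]

theorem lt_normalizer (hP : IsPGroup p P) {A K : Subgroup P} (h : A < K) :
    A < K ⊓ Subgroup.normalizer (A : Set P) := by
  haveI := (hP.to_subgroup K).isNilpotent
  refine lt_of_le_of_ne (le_inf h.le Subgroup.le_normalizer) fun e => ?_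
  have h1 : A.subgroupOf K < ⊤ := by
    rw [lt_top_iff_ne_top, Ne, Subgroup.subgroupOf_eq_top]
    exact h.not_ge
  obtain ⟨-, x, hx, hxA⟩ := SetLike.lt_iff_le_and_exists.mp
    (Group.normalizerCondition_of_isNilpotent (G := K) _ h1)
  refine hxA ?_
  rw [Subgroup.mem_subgroupOf]
  have : (x : P) ∈ K ⊓ Subgroup.normalizer (A : Set P) := by
    refine ⟨x.2, Subgroup.mem_normalizer_iff.mpr fun a => ⟨fun ha => ?_, fun ha => ?_⟩⟩
    · exact ((Subgroup.mem_normalizer_iff.mp hx ⟨a, h.le ha⟩).mp ha : _)
    · have haK : a ∈ K := by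
        have h2 := mul_mem (mul_mem (inv_mem x.2) (h.le ha)) x.2
        rwa [show (x : P)⁻¹ * ((x : P) * a * (x : P)⁻¹) * x = a by group] at h2
      exact ((Subgroup.mem_normalizer_iff.mp hx ⟨a, haK⟩).mpr ha : _)
  rwa [← e] at this

theorem eq_of_index {A B : Subgroup P} (h : A ≤ B) (hi : A.index = B.index) : A = B :=
  le_antisymm h (Subgroup.relIndex_eq_one.mp (by
    have := Subgroup.relIndex_mul_index h
    rw [hi] at this
    exact Nat.eq_of_mul_eq_mul_right (Nat.pos_of_ne_zero Subgroup.index_ne_zero_of_finite)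
      (this.trans (one_mul _).symm)))

/-- A subgroup of index `p` in its normalizer has all strict overgroups above the normalizer. -/
theorem normalizer_le' (hP : IsPGroup p P) {A K : Subgroup P}
    (hi : A.index = p * (Subgroup.normalizer (A : Set P)).index) (h : A < K) :
    Subgroup.normalizer (A : Set P) ≤ K := by
  have h1 := lt_normalizer hP h
  have h2 := Subgroup.relIndex_mul_index (show A ≤ Subgroup.normalizer (A : Set P) from Subgroup.le_normalizer)
  have hpos : 0 < (Subgroup.normalizer (A : Set P)).index := Nat.pos_of_ne_zero Subgroup.index_ne_zero_of_finite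
  rw [hi] at h2
  have h3 := Nat.eq_of_mul_eq_mul_right hpos h2
  have h4 := Subgroup.relIndex_mul_relIndex A (K ⊓ Subgroup.normalizer (A : Set P)) _ h1.le inf_le_right
  rw [h3] at h4
  rcases (Nat.dvd_prime hp.out).mp ⟨_, h4.symm⟩ with e | e
  · exact absurd (Subgroup.relIndex_eq_one.mp e) h1.not_ge
  · rw [e] at h4
    have h5 : (K ⊓ Subgroup.normalizer (A : Set P)).relIndex (Subgroup.normalizer (A : Set P)) = 1 :=
      Nat.eq_of_mul_eq_mul_left hp.out.pos (h4.trans (mul_one p).symm)
    exact fun x hx => (Subgroup.relIndex_eq_one.mp h5 hx).1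

/-- An overgroup strictly above a member contains its normalizer. -/
theorem normalizer_le (hP : IsPGroup p P) {E : Subgroup P} (hS : Step p E) {A K : Subgroup P} (hA : E ≤ A)
    (h : A < K) : Subgroup.normalizer (A : Set P) ≤ K :=
  normalizer_le' hP (hS A hA (ne_top_of_lt h)) h

theorem comparable (hP : IsPGroup p P) {E : Subgroup P} (hS : Step p E) :
    ∀ (n : ℕ) (A : Subgroup P), A.index = n → E ≤ A → ∀ K L : Subgroup P, A ≤ K → A ≤ L → K ≤ L ∨ L ≤ K := by
  intro n
  induction n using Nat.strong_induction_on with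
  | _ n ih =>
  intro A hn hA K L hK hL
  rcases eq_or_lt_of_le hK with e | hK'
  · exact Or.inl (e ▸ hL)
  rcases eq_or_lt_of_le hL with e | hL'
  · exact Or.inr (e ▸ hK)
  have hne : A ≠ ⊤ := ne_top_of_lt hK'
  refine ih _ ?_ _ rfl (hA.trans Subgroup.le_normalizer) K L (normalizer_le hP hS hA hK') (normalizer_le hP hS hA hL')
  rw [← hn, hS A hA hne]
  exact lt_mul_of_one_lt_left (Nat.pos_of_ne_zero Subgroup.index_ne_zero_of_finite) hp.out.one_lt

theorem eq_of_over (hP : IsPGroup p P) {E : Subgroup P} (hS : Step p E) {K L : Subgroup P} (hK : E ≤ K)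
    (hL : E ≤ L) (hi : K.index = L.index) : K = L := by
  rcases comparable hP hS _ E rfl le_rfl K L hK hL with h | h
  · exact eq_of_index h hi
  · exact (eq_of_index h hi.symm).symm

/-- A proper overgroup is generated by two conjugates of `E` under its normalizer. -/
theorem join_conj (hP : IsPGroup p P) {E : Subgroup P} (hS : Step p E) {K : Subgroup P} (hK : E ≤ K)
    {h : P} (hh : h ∈ Subgroup.normalizer (K : Set P)) (hhK : h ∉ K) :
    E ⊔ E.map (MulAut.conj h).toMonoidHom = K := by
  set W := E ⊔ E.map (MulAut.conj h).toMonoidHom with hW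
  have hWK : W ≤ K := sup_le hK (by
    rintro _ ⟨e, he, rfl⟩
    exact (Subgroup.mem_normalizer_iff.mp hh e).mp (hK he))
  by_contra hne
  have hlt : W < K := lt_of_le_of_ne hWK hne
  have h1 : W.map (MulAut.conj h⁻¹).toMonoidHom = W := by
    refine eq_of_over hP hS ?_ le_sup_left ?_
    · intro e he
      exact ⟨h * e * h⁻¹, Subgroup.mem_sup_right ⟨e, he, rfl⟩, by simp [mul_assoc]⟩
    · exact Subgroup.index_map_of_bijective (MulAut.conj h⁻¹).bijective W
  have h2 : h⁻¹ ∈ Subgroup.normalizer (W : Set P) := by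
    refine Subgroup.mem_normalizer_iff.mpr fun w => ⟨fun hw => h1.le ⟨w, hw, rfl⟩, fun hw => ?_⟩
    obtain ⟨v, hv, hvw⟩ := h1.ge hw
    have : v = w := (MulAut.conj h⁻¹).injective hvw
    exact this ▸ hv
  exact hhK ((inv_mem_iff).mp (normalizer_le hP hS le_sup_left hlt h2))

/-- The class of a member is at least its level. -/
theorem lcs_ne_bot (hP : IsPGroup p P) {E : Subgroup P} (hC : Subgroup.centralizer (E : Set P) ≤ E)
    (hS : Step p E) {i : ℕ} {K : Subgroup P} (hK : E ≤ K) (hKt : K ≠ ⊤) (hi : K.index * p ^ (i + 1) = E.index) :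
    K.lowerCentralSeries (i + 1) ≠ ⊥ := by
  intro hbot
  have hK1 : 1 < K.index :=
    Nat.one_lt_iff_ne_zero_and_ne_one.mpr ⟨Subgroup.index_ne_zero_of_finite, fun e => hKt (Subgroup.index_eq_one.mp e)⟩
  have key : ∀ j ≤ i, ∃ A : Subgroup P, E ≤ A ∧ A.index * p ^ j = E.index ∧ K.lowerCentralSeries (i - j) ≤ A := by
    intro j
    induction j with
    | zero =>
      refine fun _ => ⟨E, le_rfl, by rw [pow_zero, mul_one], fun g hg => hC ?_⟩
      rw [Subgroup.mem_centralizer_iff]
      intro e he
      have h1 : ⁅g, e⁆ ∈ K.lowerCentralSeries (i + 1) := by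
        rw [Subgroup.lowerCentralSeries_succ, Nat.sub_zero] at *
        exact Subgroup.commutator_mem_commutator hg (hK he)
      rw [hbot, Subgroup.mem_bot, commutatorElement_eq_one_iff_mul_comm] at h1
      exact h1.symm
    | succ j ih =>
      intro hj
      obtain ⟨A, hEA, hAi, hle⟩ := ih (by omega)
      have hAt : A ≠ ⊤ := by
        intro e
        rw [e, Subgroup.index_top, one_mul, ← hi] at hAi
        have : p ^ j < p ^ (i + 1) := Nat.pow_lt_pow_right hp.out.one_lt (by omega)
        nlinarith
      refine ⟨Subgroup.normalizer (A : Set P), hEA.trans Subgroup.le_normalizer, ?_, fun g hg => ?_⟩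
      · rw [← hAi, hS A hEA hAt, pow_succ]
        ring
      · have hAK : A ≤ K := by
          rcases comparable hP hS _ E rfl le_rfl A K hEA hK with h | h
          · exact h
          · exfalso
            have h1 := Nat.le_of_dvd (Nat.pos_of_ne_zero Subgroup.index_ne_zero_of_finite) (Subgroup.index_dvd_of_le h)
            have h2 : p ^ j < p ^ (i + 1) := Nat.pow_lt_pow_right hp.out.one_lt (by omega)
            have h3 := Nat.mul_le_mul_right (p ^ j) h1
            have h4 := Nat.mul_lt_mul_of_pos_left h2 (show 0 < K.index by omega)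
            omega
        have hgc : ∀ a ∈ A, ⁅g, a⁆ ∈ A := fun a ha => hle (by
          rw [show i - j = i - (j + 1) + 1 by omega, Subgroup.lowerCentralSeries_succ]
          exact Subgroup.commutator_mem_commutator hg (hAK ha))
        refine Subgroup.mem_normalizer_iff_map_conj_eq.mpr (Subgroup.eq_of_le_of_card_ge ?_ ?_)
        · rintro _ ⟨a, ha, rfl⟩
          have := mul_mem (hgc a ha) ha
          rwa [commutatorElement_def, inv_mul_cancel_right] at this
        · exact (Subgroup.card_map_of_injective (MulAut.conj g).injective).ge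
  obtain ⟨A, hEA, hAi, hle⟩ := key i le_rfl
  rw [Nat.sub_self, Subgroup.lowerCentralSeries_zero] at hle
  have h1 := Nat.le_of_dvd (Nat.pos_of_ne_zero Subgroup.index_ne_zero_of_finite) (Subgroup.index_dvd_of_le hle)
  have h2 : p ^ i < p ^ (i + 1) := Nat.pow_lt_pow_right hp.out.one_lt (by omega)
  have h3 := Nat.mul_le_mul_right (p ^ i) h1
  have h4 := Nat.mul_lt_mul_of_pos_left h2 (show 0 < K.index by omega)
  omega

end CfsgLib.SoftSub
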