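import Mathlib
import Cfsg.Agent.Lib.SoftSub.Basic

/-!
The tower of overgroups of a soft subgroup.
-/

set_option autoImplicit false
set_option linter.style.haveILetI false

namespace CfsgLib.SoftSub

open scoped commutatorElement

universe u

variable {p : ℕ} [hp : Fact p.Prime] {P : Type u} [Group P] [Finite P]

theorem mem_normalizer_of_commutator_mem {A : Subgroup P} {g : P} (h : ∀ a ∈ A, ⁅g, a⁆ ∈ A) :
    g ∈ Subgroup.normalizer (A : Set P) := by
  refine Subgroup.mem_normalizer_iff_map_conj_eq.mpr (Subgroup.eq_of_le_of_card_ge ?_ ?_)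
  · rintro _ ⟨a, ha, rfl⟩
    have := mul_mem (h a ha) ha
    rwa [commutatorElement_def, inv_mul_cancel_right] at this
  · exact (Subgroup.card_map_of_injective (MulAut.conj g).injective).ge

theorem Soft.index_pos (E : Subgroup P) : 0 < E.index := Nat.pos_of_ne_zero Subgroup.index_ne_zero_of_finite

theorem Soft.normalizer_ne_top {E : Subgroup P} (h : Soft p E) : Subgroup.normalizer (E : Set P) ≠ ⊤ := by
  intro e
  have h1 := h.nor
  have h2 := h.big
  rw [e, Subgroup.index_top, mul_one] at h1
  have h3 : p < p ^ 2 := lt_self_pow₀ hp.out.one_lt one_lt_two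
  omega

/-- The normalizer is generated by `E` and any further element. -/
theorem Soft.sup_eq (hP : IsPGroup p P) {E W : Subgroup P} (h : Soft p E) (hW : E ≤ W)
    (hW' : W ≤ Subgroup.normalizer (E : Set P)) (hne : W ≠ E) : W = Subgroup.normalizer (E : Set P) :=
  le_antisymm hW' (normalizer_le' hP h.nor (lt_of_le_of_ne hW (Ne.symm hne)))

/-- The first step: the normalizer has index `p` in its normalizer. -/
theorem Soft.base (hP : IsPGroup p P) {E : Subgroup P} (h : Soft p E) :
    (Subgroup.normalizer (E : Set P)).index =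
      p * (Subgroup.normalizer ((Subgroup.normalizer (E : Set P) : Subgroup P) : Set P)).index := by
  classical
  haveI : Fintype P := Fintype.ofFinite P
  set N := Subgroup.normalizer (E : Set P) with hN
  set M := Subgroup.normalizer (N : Set P) with hM
  have hEN : E ≤ N := Subgroup.le_normalizer
  have hNM : N ≤ M := Subgroup.le_normalizer
  have hlt : N < M := by
    have := lt_normalizer hP (lt_top_iff_ne_top.mpr h.normalizer_ne_top)
    rwa [top_inf_eq] at this
  obtain ⟨-, g, hgM, hgN⟩ := SetLike.lt_iff_le_and_exists.mp hlt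
  -- the conjugates
  let Good : Subgroup P → Prop := fun A =>
    A ≤ N ∧ A.index = E.index ∧ (∀ a ∈ A, ∀ b ∈ A, a * b = b * a) ∧ Subgroup.centralizer (A : Set P) ≤ A
  have hconj : ∀ m ∈ M, Good (E.map (MulAut.conj m).toMonoidHom) := by
    intro m hm
    refine ⟨?_, Subgroup.index_map_of_bijective (MulAut.conj m).bijective E, ?_, ?_⟩
    · rintro _ ⟨e, he, rfl⟩
      exact (Subgroup.mem_normalizer_iff.mp hm e).mp (hEN he)
    · rintro _ ⟨a, ha, rfl⟩ _ ⟨b, hb, rfl⟩
      rw [← map_mul, ← map_mul, h.comm a ha b hb]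
    · intro c hc
      refine ⟨m⁻¹ * c * m, h.cent (Subgroup.mem_centralizer_iff.mpr fun e he => ?_), by simp [mul_assoc]⟩
      have h1 := Subgroup.mem_centralizer_iff.mp hc _ ⟨e, he, rfl⟩
      simp only [MulEquiv.coe_toMonoidHom, MulAut.conj_apply] at h1
      calc e * (m⁻¹ * c * m) = m⁻¹ * (m * e * m⁻¹ * c) * m := by group
        _ = m⁻¹ * (c * (m * e * m⁻¹)) * m := by rw [h1]
        _ = m⁻¹ * c * m * e := by group
  obtain ⟨hg1, hg2, hg3, hg4⟩ := hconj g hgM
  set E' := E.map (MulAut.conj g).toMonoidHom with hE'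
  have hne : E' ≠ E := fun e => hgN (Subgroup.mem_normalizer_iff_map_conj_eq.mpr e)
  set Zc := E ⊓ E' with hZc
  have hjoin : E ⊔ E' = N := h.sup_eq hP le_sup_left (sup_le hEN hg1)
    (fun e => hne (eq_of_index (sup_eq_left.mp e) hg2))
  have hcN : ∀ z ∈ Zc, ∀ x ∈ N, x * z = z * x := by
    intro z hz x hx
    have : N ≤ Subgroup.centralizer {z} := by
      rw [← hjoin]
      exact sup_le (fun a ha => Subgroup.mem_centralizer_singleton_iff.mpr (h.comm a ha z hz.1))
        fun a ha => Subgroup.mem_centralizer_singleton_iff.mpr (hg3 a ha z hz.2)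
    exact Subgroup.mem_centralizer_singleton_iff.mp (this hx)
  have hrelN : ∀ A : Subgroup P, A ≤ N → A.index = E.index → A.relIndex N = p := by
    intro A hA hi
    have h1 := Subgroup.relIndex_mul_index hA
    rw [hi, h.nor] at h1
    exact Nat.eq_of_mul_eq_mul_right (Soft.index_pos _) h1
  have hrelE : Zc.relIndex E = p := by
    rw [hZc, Subgroup.inf_relIndex_left]
    have h1 := Subgroup.relIndex_le_of_le_right (H := E') hEN (by rw [hrelN E' hg1 hg2]; exact hp.out.ne_zero)
    rw [hrelN E' hg1 hg2] at h1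
    obtain ⟨k, hk⟩ := (hP.to_subgroup E).index (E'.subgroupOf E)
    change E'.relIndex E = p ^ k at hk
    rcases Nat.eq_zero_or_pos k with rfl | hk0
    · rw [pow_zero, Subgroup.relIndex_eq_one] at hk
      exact absurd (eq_of_index hk hg2.symm).symm hne
    · rw [hk] at h1 ⊢
      rcases Nat.lt_or_ge k 2 with hk2 | hk2
      · rw [show k = 1 by omega, pow_one]
      · have : p ^ 2 ≤ p ^ k := Nat.pow_le_pow_right hp.out.pos hk2
        have : p < p ^ 2 := lt_self_pow₀ hp.out.one_lt one_lt_two
        omega
  have hcardA : ∀ A : Subgroup P, A.index = E.index → Nat.card A = Nat.card Zc * p := by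
    intro A hi
    have h1 := A.card_mul_index
    rw [hi, ← E.card_mul_index] at h1
    rw [Nat.eq_of_mul_eq_mul_right (Soft.index_pos _) h1, ← hrelE, ← Subgroup.index_bot (G := E)]
    have h2 := Subgroup.relIndex_mul_relIndex ⊥ Zc E bot_le inf_le_left
    rw [Subgroup.relIndex_bot_left, Subgroup.relIndex_bot_left] at h2
    rw [Subgroup.index_bot, h2]
  have hZA : ∀ A, Good A → Zc ≤ A := fun A hA z hz =>
    hA.2.2.2 (Subgroup.mem_centralizer_iff.mpr fun a ha => hcN z hz a (hA.1 ha))
  have huniq : ∀ A B, Good A → Good B → ∀ a ∈ A, a ∈ B → a ∉ Zc → A = B := by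
    intro A B hA hB a haA haB haZ
    have h1 : Zc ≤ A ⊓ B := le_inf (hZA A hA) (hZA B hB)
    have h2 := Subgroup.relIndex_mul_relIndex Zc (A ⊓ B) A h1 inf_le_left
    have h3 : Zc.relIndex A = p := by
      have := Subgroup.relIndex_mul_relIndex ⊥ Zc A bot_le (hZA A hA)
      rw [Subgroup.relIndex_bot_left, Subgroup.relIndex_bot_left, hcardA A hA.2.1] at this
      exact Nat.eq_of_mul_eq_mul_left Nat.card_pos this
    rw [h3] at h2
    rcases (Nat.dvd_prime hp.out).mp ⟨_, h2.symm⟩ with e | e
    · exact absurd (Subgroup.relIndex_eq_one.mp e ⟨haA, haB⟩) haZ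
    · rw [e] at h2
      have h5 : (A ⊓ B).relIndex A = 1 := Nat.eq_of_mul_eq_mul_left hp.out.pos (h2.trans (mul_one p).symm)
      exact eq_of_index (fun x hx => (Subgroup.relIndex_eq_one.mp h5 hx).2) (hA.2.1.trans hB.2.1.symm)
  -- the orbit
  let 𝒜 := {A : Subgroup P // Good A}
  have horb : N.relIndex M ≤ Nat.card 𝒜 := by
    rw [Subgroup.relIndex, Subgroup.index_eq_card]
    refine Nat.card_le_card_of_injective
      (fun q : ↥M ⧸ N.subgroupOf M => (⟨_, hconj _ (Quotient.out q).2⟩ : 𝒜)) fun a b hab => ?_
    rw [← QuotientGroup.out_eq' a, ← QuotientGroup.out_eq' b, QuotientGroup.eq, Subgroup.mem_subgroupOf]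
    have he := congrArg (fun A : 𝒜 => (A : Subgroup P).map
      (MulAut.conj ((Quotient.out a : ↥M) : P)⁻¹).toMonoidHom) hab
    simp only [Subgroup.map_map] at he
    refine Subgroup.mem_normalizer_iff_map_conj_eq.mpr ?_
    have e2 : ∀ m n : P, (MulAut.conj m).toMonoidHom.comp (MulAut.conj n).toMonoidHom =
        (MulAut.conj (m * n)).toMonoidHom := fun m n => MonoidHom.ext fun x => by
      simp [MulAut.conj_apply, mul_assoc]
    rw [e2, e2, inv_mul_cancel] at he
    have e1 : (MulAut.conj (1 : P)).toMonoidHom = MonoidHom.id P := MonoidHom.ext fun x => by simp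
    rw [e1, Subgroup.map_id] at he
    rw [Subgroup.coe_mul, Subgroup.coe_inv]
    exact he.symm
  have hcnt : Nat.card 𝒜 * (Nat.card Zc * p - Nat.card Zc) ≤ Nat.card N - Nat.card Zc := by
    have hdiff : ∀ A : Subgroup P, Zc ≤ A →
        Nat.card ↥((A : Set P) \ (Zc : Set P)) = Nat.card A - Nat.card Zc := fun A hA => by
      rw [Nat.card_coe_set_eq, Set.ncard_sdiff hA]
      rfl
    rw [← hdiff N (inf_le_left.trans hEN)]
    refine le_trans (le_of_eq ?_) (Nat.card_le_card_of_injective
      (fun x : Σ A : 𝒜, ↥(((A : Subgroup P) : Set P) \ (Zc : Set P)) =>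
        (⟨(x.2 : P), x.1.2.1 x.2.2.1, x.2.2.2⟩ : ↥((N : Set P) \ (Zc : Set P)))) ?_)
    · rw [Nat.card_sigma, Finset.sum_congr rfl fun A _ => by
        rw [hdiff _ (hZA _ A.2), hcardA _ A.2.2.1], Finset.sum_const, Finset.card_univ, smul_eq_mul,
        Nat.card_eq_fintype_card]
    · rintro ⟨A, a, ha⟩ ⟨B, b, hb⟩ hab
      obtain rfl : a = b := congrArg Subtype.val hab
      obtain rfl : A = B := Subtype.ext (huniq _ _ A.2 B.2 a ha.1 hb.1 ha.2)
      rfl
  have hcardN : Nat.card N = Nat.card Zc * p * p := by
    rw [← hcardA E rfl, ← hrelN E hEN rfl]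
    have := Subgroup.relIndex_mul_relIndex ⊥ E N bot_le hEN
    rw [Subgroup.relIndex_bot_left, Subgroup.relIndex_bot_left] at this
    exact this.symm
  obtain ⟨k, hk⟩ := (hP.to_subgroup M).index (N.subgroupOf M)
  change N.relIndex M = p ^ k at hk
  have hk1 : 0 < k := by
    rcases Nat.eq_zero_or_pos k with rfl | h0
    · rw [pow_zero, Subgroup.relIndex_eq_one] at hk
      exact absurd hk hlt.not_ge
    · exact h0
  have hk2 : k < 2 := by
    by_contra hk2
    have h1 : p ^ 2 ≤ Nat.card 𝒜 := ((Nat.pow_le_pow_right hp.out.pos (not_lt.mp hk2)).trans hk.ge).trans horb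
    have h2 := (Nat.mul_le_mul_right (Nat.card Zc * p - Nat.card Zc) h1).trans hcnt
    rw [hcardN] at h2
    have h3 : 0 < Nat.card Zc := Nat.card_pos
    obtain ⟨q, hq⟩ : ∃ q, p = q + 2 := ⟨p - 2, by have := hp.out.two_le; omega⟩
    generalize hz : Nat.card Zc = c at h2 h3
    subst hq
    rw [show c * (q + 2) - c = c * (q + 1) by rw [Nat.mul_succ c (q + 1)]; omega] at h2
    have h4 : c * (q + 2) * (q + 2) - c < c * (q + 2) * (q + 2) := by
      have : 0 < c * (q + 2) * (q + 2) := by positivity
      omega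
    nlinarith
  have h1 := Subgroup.relIndex_mul_index hNM
  rw [hk, show k = 1 by omega, pow_one] at h1
  exact h1.symm

theorem normalizer_index_map {Q : Type u} [Group Q] (f : P →* Q) (hf : Function.Surjective f) {K : Subgroup P}
    (hK : f.ker ≤ K) : (K.map f).index = K.index ∧
      (Subgroup.normalizer ((K.map f : Subgroup Q) : Set Q)).index = (Subgroup.normalizer (K : Set P)).index := by
  refine ⟨Subgroup.index_map_eq K hf hK, ?_⟩
  rw [← Subgroup.index_comap_of_surjective _ hf, Subgroup.comap_normalizer_eq_of_surjective _ hf,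
    Subgroup.comap_map_eq_self hK]

/-- Commutation modulo a central subgroup extends to the normalizer. -/
theorem Soft.comm_map (hP : IsPGroup p P) {E : Subgroup P} (h : Soft p E) {Q : Type u} [Group Q] (f : P →* Q)
    {x : P} (hx : x ∈ Subgroup.normalizer (E : Set P)) (hxE : x ∉ E)
    (hc : ∀ e ∈ E, f e * f x = f x * f e) :
    ∀ a ∈ Subgroup.normalizer (E : Set P), ∀ b ∈ Subgroup.normalizer (E : Set P), f a * f b = f b * f a := by
  have hW : E ⊔ Subgroup.zpowers x = Subgroup.normalizer (E : Set P) :=
    h.sup_eq hP le_sup_left (sup_le Subgroup.le_normalizer (Subgroup.zpowers_le.mpr hx))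
      fun e => hxE (e ▸ Subgroup.mem_sup_right (Subgroup.mem_zpowers x))
  have hE : ∀ e ∈ E, ∀ b ∈ Subgroup.normalizer (E : Set P), f e * f b = f b * f e := by
    intro e he b hb
    have : Subgroup.normalizer (E : Set P) ≤ (Subgroup.centralizer {f e}).comap f := by
      rw [← hW]
      exact sup_le (fun a ha => Subgroup.mem_centralizer_singleton_iff.mpr (by
          rw [← map_mul, ← map_mul, h.comm e he a ha]))
        (Subgroup.zpowers_le.mpr (Subgroup.mem_centralizer_singleton_iff.mpr (hc e he).symm))
    exact (Subgroup.mem_centralizer_singleton_iff.mp (this hb)).symm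
  intro a ha b hb
  have : Subgroup.normalizer (E : Set P) ≤ (Subgroup.centralizer {f b}).comap f := by
    rw [← hW]
    refine sup_le (fun e he => Subgroup.mem_centralizer_singleton_iff.mpr (hE e he b hb))
      (Subgroup.zpowers_le.mpr (Subgroup.mem_centralizer_singleton_iff.mpr ?_))
    have : Subgroup.normalizer (E : Set P) ≤ (Subgroup.centralizer {f x}).comap f := by
      rw [← hW]
      exact sup_le (fun e he => Subgroup.mem_centralizer_singleton_iff.mpr (hc e he))
        (Subgroup.zpowers_le.mpr (Subgroup.mem_centralizer_singleton_iff.mpr rfl))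
    exact (Subgroup.mem_centralizer_singleton_iff.mp (this hb)).symm
  exact Subgroup.mem_centralizer_singleton_iff.mp (this ha)

/-- The tower theorem. -/
theorem tower : ∀ (n : ℕ) {P : Type u} [Group P] [Finite P], IsPGroup p P → Nat.card P = n →
    ∀ E : Subgroup P, Soft p E → Step p E ∧
      ∀ (i : ℕ) (K : Subgroup P), E ≤ K → K ≠ ⊤ → K.index * p ^ i = E.index →
        K.lowerCentralSeries (i + 1) = ⊥ := by
  intro n
  induction n using Nat.strong_induction_on with
  | _ n ih =>
  intro P _ _ hP hn E h
  set N := Subgroup.normalizer (E : Set P) with hN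
  have hEN : E ≤ N := Subgroup.le_normalizer
  have hNt := h.normalizer_ne_top
  haveI : Nontrivial P := by
    by_contra hn1
    rw [not_nontrivial_iff_subsingleton] at hn1
    exact hNt (Subgroup.eq_top_of_card_eq _ (by rw [Nat.card_of_subsingleton (1 : P), Nat.card_of_subsingleton (1 : N)]))
  have hzE : ∀ z : P, (∀ g, g * z = z * g) → z ∈ E := fun z hz =>
    h.cent (Subgroup.mem_centralizer_iff.mpr fun e _ => hz e)
  -- quotients by central subgroups of order `p`
  have quot : ∀ z : P, (∀ g, g * z = z * g) → orderOf z = p →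
      ∃ (Q : Type u) (_ : Group Q) (_ : Finite Q) (f : P →* Q),
        Function.Surjective f ∧ f.ker = Subgroup.zpowers z ∧ IsPGroup p Q ∧ Nat.card Q < n := by
    intro z hz hzo
    haveI : (Subgroup.zpowers z).Normal := ⟨fun a ha g => by
      obtain ⟨k, rfl⟩ := Subgroup.mem_zpowers_iff.mp ha
      rw [((show Commute g z from hz g).zpow_right k).eq, mul_inv_cancel_right]
      exact Subgroup.zpow_mem _ (Subgroup.mem_zpowers z) k⟩
    refine ⟨P ⧸ Subgroup.zpowers z, inferInstance, inferInstance, QuotientGroup.mk' _,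
      QuotientGroup.mk'_surjective _, QuotientGroup.ker_mk' _, hP.to_quotient _, ?_⟩
    rw [← hn, Subgroup.card_eq_card_quotient_mul_card_subgroup (Subgroup.zpowers z), Nat.card_zpowers, hzo]
    exact lt_mul_of_one_lt_right Nat.card_pos hp.out.one_lt
  -- lifting a vanishing term of the series
  have lift : ∀ {Q : Type u} [Group Q] (f : P →* Q) (K : Subgroup P) (i : ℕ),
      (∀ a ∈ f.ker, ∀ g, g * a = a * g) → (K.map f).lowerCentralSeries i = ⊥ →
      K.lowerCentralSeries (i + 1) = ⊥ := by
    intro Q _ f K i hker hK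
    rw [← Subgroup.map_lowerCentralSeries, Subgroup.map_eq_bot_iff] at hK
    rw [Subgroup.lowerCentralSeries_succ, Subgroup.commutator_eq_bot_iff_le_centralizer]
    exact fun a ha => Subgroup.mem_centralizer_iff.mpr fun k _ => hker a (hK ha) k
  by_cases hI : ∃ z : P, (∀ g, g * z = z * g) ∧ orderOf z = p ∧ ∀ e ∈ E, ∀ x ∈ N, ⁅e, x⁆ ∈ Subgroup.zpowers z
  · -- the normalizer becomes soft
    obtain ⟨z, hz, hzo, hcz⟩ := hI
    obtain ⟨Q, _, _, f, hf, hker, hQ, hQn⟩ := quot z hz hzo
    have hkE : f.ker ≤ E := hker ▸ Subgroup.zpowers_le.mpr (hzE z hz)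
    have hkN : f.ker ≤ N := hkE.trans hEN
    have hkc : ∀ a ∈ f.ker, ∀ g, g * a = a * g := fun a ha g => by
      rw [hker] at ha
      obtain ⟨k, rfl⟩ := Subgroup.mem_zpowers_iff.mp ha
      exact ((show Commute g z from hz g).zpow_right k).eq
    obtain ⟨-, x, hx, hxE⟩ := SetLike.lt_iff_le_and_exists.mp
      (show E < N from lt_of_le_of_ne hEN fun e => by
        have h1 := h.nor
        rw [← hN, ← e] at h1
        have := Soft.index_pos E
        have := hp.out.two_le
        nlinarith)
    have hNc : ∀ a ∈ N, ∀ b ∈ N, f a * f b = f b * f a := h.comm_map hP f hx hxE fun e he => by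
      rw [← commutatorElement_eq_one_iff_mul_comm, ← map_commutatorElement, ← MonoidHom.mem_ker, hker]
      exact hcz e he x hx
    have hNQc : ∀ a ∈ N.map f, ∀ b ∈ N.map f, a * b = b * a := by
      rintro _ ⟨a, ha, rfl⟩ _ ⟨b, hb, rfl⟩
      exact hNc a ha b hb
    have hbase := h.base hP
    have hsmall : ∀ K : Subgroup P, N ≤ K → (N.map f ≤ K.map f ∧ f.ker ≤ K) :=
      fun K hK => ⟨Subgroup.map_mono hK, hkN.trans hK⟩
    have hlcs1 : N.lowerCentralSeries 2 = ⊥ := lift f N 1 hkc (by
      rw [Subgroup.lowerCentralSeries_succ, Subgroup.lowerCentralSeries_zero,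
        Subgroup.commutator_eq_bot_iff_le_centralizer]
      exact fun a ha => Subgroup.mem_centralizer_iff.mpr fun b hb => (hNQc a ha b hb).symm)
    have hNE : N.index * p = E.index := by rw [h.nor, mul_comm]
    by_cases hbig : p ^ 2 ≤ N.index
    · have hsoft : Soft p (N.map f) := by
        obtain ⟨h1, h2⟩ := normalizer_index_map f hf hkN
        refine ⟨hNQc, ?_, by rw [h1, h2]; exact hbase, by rw [h1]; exact hbig⟩
        intro q hq
        obtain ⟨g, rfl⟩ := hf q
        refine Subgroup.mem_map_of_mem f (mem_normalizer_of_commutator_mem fun e he => hkE ?_)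
        rw [MonoidHom.mem_ker, map_commutatorElement, commutatorElement_eq_one_iff_mul_comm]
        exact (Subgroup.mem_centralizer_iff.mp hq (f e) (Subgroup.mem_map_of_mem f (hEN he))).symm
      obtain ⟨hstep, hcl⟩ := ih _ hQn hQ rfl _ hsoft
      refine ⟨fun K hK hKt => ?_, fun i K hK hKt hi => ?_⟩
      · rcases eq_or_lt_of_le hK with e | hlt
        · exact e ▸ h.nor
        obtain ⟨hle, hk⟩ := hsmall K (normalizer_le' hP h.nor hlt)
        obtain ⟨h1, h2⟩ := normalizer_index_map f hf hk
        rw [← h1, ← h2]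
        refine hstep _ hle fun e => hKt ?_
        rw [e, Subgroup.index_top] at h1
        exact Subgroup.index_eq_one.mp h1.symm
      · rcases i with _ | i
        · rw [pow_zero, mul_one] at hi
          obtain rfl := eq_of_index hK hi.symm
          rw [Subgroup.lowerCentralSeries_succ, Subgroup.lowerCentralSeries_zero,
            Subgroup.commutator_eq_bot_iff_le_centralizer]
          exact fun a ha => Subgroup.mem_centralizer_iff.mpr fun b hb => h.comm b hb a ha
        · have hlt : E < K := lt_of_le_of_ne hK fun e => by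
            rw [← e] at hi
            have h2 : p ≤ p ^ (i + 1) := Nat.le_self_pow (by omega) p
            have := Soft.index_pos E
            have := hp.out.two_le
            nlinarith
          obtain ⟨hle, hk⟩ := hsmall K (normalizer_le' hP h.nor hlt)
          obtain ⟨h1, -⟩ := normalizer_index_map f hf hk
          obtain ⟨h1', -⟩ := normalizer_index_map f hf hkN
          refine lift f K (i + 1) hkc (hcl i _ hle (fun e => hKt ?_) ?_)
          · rw [e, Subgroup.index_top] at h1
            exact Subgroup.index_eq_one.mp h1.symm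
          · rw [h1, h1']
            refine Nat.eq_of_mul_eq_mul_right hp.out.pos ?_
            rw [hNE, ← hi, pow_succ]
            ring
    · have hNp : N.index = p := by
        obtain ⟨k, hk⟩ := hP.index N
        have hk1 : k ≠ 0 := fun e => hNt (Subgroup.index_eq_one.mp (by rw [hk, e, pow_zero]))
        have hk2 : k < 2 := by
          by_contra hge
          exact hbig (hk ▸ Nat.pow_le_pow_right hp.out.pos (not_lt.mp hge))
        rw [hk, show k = 1 by omega, pow_one]
      have hover : ∀ K, E ≤ K → K ≠ ⊤ → K = E ∨ K = N := fun K hK hKt => by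
        rcases eq_or_lt_of_le hK with e | hlt
        · exact Or.inl e.symm
        have hle := normalizer_le' hP h.nor hlt
        refine Or.inr (eq_of_index hle ?_).symm
        rcases (Nat.dvd_prime hp.out).mp (hNp ▸ Subgroup.index_dvd_of_le hle) with e | e
        · exact absurd (Subgroup.index_eq_one.mp e) hKt
        · rw [hNp, e]
      refine ⟨fun K hK hKt => ?_, fun i K hK hKt hi => ?_⟩
      · rcases hover K hK hKt with rfl | rfl
        · exact h.nor
        · exact hbase
      · rcases hover K hK hKt with rfl | rfl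
        · have hi0 : i = 0 := by
            by_contra hi0
            have h2 : p ≤ p ^ i := Nat.le_self_pow hi0 p
            have := Soft.index_pos K
            have := hp.out.two_le
            nlinarith
          subst hi0
          rw [Subgroup.lowerCentralSeries_succ, Subgroup.lowerCentralSeries_zero,
            Subgroup.commutator_eq_bot_iff_le_centralizer]
          exact fun a ha => Subgroup.mem_centralizer_iff.mpr fun b hb => h.comm b hb a ha
        · have hi1 : i = 1 := by
            rw [← hNE, hNp, ← pow_succ'] at hi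
            have := Nat.pow_right_injective hp.out.two_le (hi.trans (pow_two p).symm)
            omega
          subst hi1
          exact hlcs1
  · -- the subgroup stays soft
    obtain ⟨z, hz, hzo⟩ : ∃ z : P, (∀ g, g * z = z * g) ∧ orderOf z = p := by
      haveI := hP.center_nontrivial
      obtain ⟨k, hk0, hk⟩ := (IsPGroup.nontrivial_iff_card (hP.to_subgroup (Subgroup.center P))).mp inferInstance
      obtain ⟨y, hy⟩ := exists_prime_orderOf_dvd_card' (G := Subgroup.center P) p
        (hk ▸ dvd_pow_self p hk0.ne')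
      exact ⟨y, fun g => Subgroup.mem_center_iff.mp y.2 g, by rw [Subgroup.orderOf_coe, hy]⟩
    obtain ⟨Q, _, _, f, hf, hker, hQ, hQn⟩ := quot z hz hzo
    have hkE : f.ker ≤ E := hker ▸ Subgroup.zpowers_le.mpr (hzE z hz)
    have hself : ∀ g : P, (∀ e ∈ E, f g * f e = f e * f g) → g ∈ E := by
      intro g hg
      by_contra hgE
      have hgN : g ∈ N := mem_normalizer_of_commutator_mem fun e he => hkE (by
        rw [MonoidHom.mem_ker, map_commutatorElement, commutatorElement_eq_one_iff_mul_comm]
        exact hg e he)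
      refine hI ⟨z, hz, hzo, fun e he x hx => ?_⟩
      rw [← hker, MonoidHom.mem_ker, map_commutatorElement, commutatorElement_eq_one_iff_mul_comm]
      exact h.comm_map hP f hgN hgE (fun e he => (hg e he).symm) e (hEN he) x hx
    obtain ⟨hE1, hE2⟩ := normalizer_index_map f hf hkE
    have hsoft : Soft p (E.map f) := by
      refine ⟨?_, fun q hq => ?_, by rw [hE1, hE2]; exact h.nor, by rw [hE1]; exact h.big⟩
      · rintro _ ⟨a, ha, rfl⟩ _ ⟨b, hb, rfl⟩
        rw [← map_mul, ← map_mul, h.comm a ha b hb]
      · obtain ⟨g, rfl⟩ := hf q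
        exact Subgroup.mem_map_of_mem f (hself g fun e he =>
          (Subgroup.mem_centralizer_iff.mp hq (f e) (Subgroup.mem_map_of_mem f he)).symm)
    obtain ⟨hstep, hcl⟩ := ih _ hQn hQ rfl _ hsoft
    have hKmap : ∀ K, E ≤ K → K ≠ ⊤ → E.map f ≤ K.map f ∧ f.ker ≤ K ∧ K.map f ≠ ⊤ := by
      intro K hK hKt
      refine ⟨Subgroup.map_mono hK, hkE.trans hK, fun e => hKt ?_⟩
      have h1 := (normalizer_index_map f hf (hkE.trans hK)).1
      rw [e, Subgroup.index_top] at h1
      exact Subgroup.index_eq_one.mp h1.symm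
    have hS : Step p E := fun K hK hKt => by
      obtain ⟨hle, hk, hne⟩ := hKmap K hK hKt
      obtain ⟨h1, h2⟩ := normalizer_index_map f hf hk
      rw [← h1, ← h2]
      exact hstep _ hle hne
    refine ⟨hS, fun i K hK hKt hi => ?_⟩
    obtain ⟨hle, hk, hne⟩ := hKmap K hK hKt
    have h0 := hcl i _ hle hne (by rw [(normalizer_index_map f hf hk).1, hE1]; exact hi)
    obtain ⟨-, y, hy, hyK⟩ := SetLike.lt_iff_le_and_exists.mp
      (lt_normalizer hP (lt_top_iff_ne_top.mpr hKt))
    have hmem : ∀ a ∈ K.lowerCentralSeries i, a ∈ E := fun a ha => hself a fun e he => by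
      have h1 : ⁅a, e⁆ ∈ K.lowerCentralSeries (i + 1) := by
        rw [Subgroup.lowerCentralSeries_succ]
        exact Subgroup.commutator_mem_commutator ha (hK he)
      have h2 := Subgroup.mem_map_of_mem f h1
      rw [Subgroup.map_lowerCentralSeries, h0, Subgroup.mem_bot, map_commutatorElement,
        commutatorElement_eq_one_iff_mul_comm] at h2
      exact h2
    rw [Subgroup.lowerCentralSeries_succ, Subgroup.commutator_eq_bot_iff_le_centralizer]
    intro a ha
    have hconjK : K.map (MulAut.conj y⁻¹).toMonoidHom = K :=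
      Subgroup.mem_normalizer_iff_map_conj_eq.mp (inv_mem hy.2)
    have ha' : y⁻¹ * a * y ∈ E := hmem _ (by
      rw [← hconjK, ← Subgroup.map_lowerCentralSeries]
      exact ⟨a, ha, by simp⟩)
    rw [Subgroup.mem_centralizer_iff]
    intro k hkK
    have hle' : E ⊔ E.map (MulAut.conj y).toMonoidHom ≤ Subgroup.centralizer {a} := sup_le
      (fun e he => Subgroup.mem_centralizer_singleton_iff.mpr (h.comm e he a (hmem a ha)))
      (by
        rintro _ ⟨e, he, rfl⟩
        refine Subgroup.mem_centralizer_singleton_iff.mpr ?_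
        show y * e * y⁻¹ * a = a * (y * e * y⁻¹)
        calc y * e * y⁻¹ * a = y * (e * (y⁻¹ * a * y)) * y⁻¹ := by group
          _ = y * ((y⁻¹ * a * y) * e) * y⁻¹ := by rw [h.comm e he _ ha']
          _ = a * (y * e * y⁻¹) := by group)
    rw [join_conj hP hS hK hy.2 hyK] at hle'
    exact Subgroup.mem_centralizer_singleton_iff.mp (hle' hkK)

end CfsgLib.SoftSub
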